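import Groth.Agent.EtpbcB.HLim
import Groth.Agent.EtAdic.K833.Homotopy
import Groth.Agent.CalgA.RelApprox
import Groth.Agent.Smoothlim.AffineApprox2

/-!
# Homotopy invariance of étale cohomology over a quasi-compact quasi-separated base

* `K880.LimU.exists_limit`: a qcqs scheme over an affine scheme `B` is the limit of an inverse system of `B`-schemes
  of finite type with affine transition maps.
* `K880.LimU.exists_HC_stage`: classes with constant coefficients on `X ×_S lim U_a` come from some `X ×_S U_a`.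
* `K880.LimU.HC_section_eq`: **homotopy invariance** of the cohomology of `U ×_k T` for `U` qcqs over the separably
  closed field `k` and `T` connected of finite type.
-/

set_option autoImplicit false
universe u

open CategoryTheory CategoryTheory.Limits AlgebraicGeometry Opposite Abelian
open scoped Groth.Agent.Etcore.EtInst
open Groth.Agent.Etcore.EtInst

namespace K880.LimU

open Groth.Agent.Etcore.PullCoh Groth.Agent.Etcore.HpullCalc Groth.Agent.Etcore
  Groth.Agent.Etcore.HC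

/-- A quasi-compact quasi-separated scheme over an affine scheme is a limit of schemes of finite type over it. -/
theorem exists_limit {U B : Scheme.{u}} (p : U ⟶ B) [IsAffine B] [CompactSpace U] [QuasiSeparatedSpace U] :
    ∃ (I : Type u) (_ : Preorder I) (_ : IsDirected I (fun a b => a ≤ b)) (_ : Nonempty I)
      (D : Iᵒᵖ ⥤ Scheme.{u}) (c : Cone D) (_ : IsLimit c) (τ : ∀ a : Iᵒᵖ, D.obj a ⟶ B) (e : c.pt ≅ U),
      (∀ ⦃a b : Iᵒᵖ⦄ (h : a ⟶ b), IsAffineHom (D.map h)) ∧
      (∀ ⦃a b : Iᵒᵖ⦄ (h : a ⟶ b), D.map h ≫ τ b = τ a) ∧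
      (∀ a, LocallyOfFiniteType (τ a) ∧ QuasiCompact (τ a) ∧ QuasiSeparated (τ a)) ∧
      ∀ a, c.π.app a ≫ τ a = e.hom ≫ p := by
  have hrel : Groth.Agent.Smoothlim.AffineApprox2.RelApprox.{u} :=
    fun {X T} g _ _ ↦ Groth.Agent.CalgA.RelApprox.relApprox g
  obtain ⟨T₀, g, hg, hT₀, hT₁⟩ :=
    Groth.Agent.Smoothlim.AffineApprox2.exists_affine_to_finiteType_of hrel U
  let f₀ := specULiftZIsTerminal.from T₀
  let b₀ := specULiftZIsTerminal.from B
  have inst3 : IsNoetherianRing (ULift.{u} ℤ) :=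
    isNoetherianRing_of_ringEquiv ℤ ULift.ringEquiv.symm
  have hf₀ : LocallyOfFiniteType f₀ := hT₁
  have hT : IsLocallyNoetherian T₀ := LocallyOfFiniteType.isLocallyNoetherian f₀
  have hT' : IsNoetherian T₀ := ⟨⟩
  have hqc : QuasiCompact f₀ := inferInstance
  have hqs : QuasiSeparated f₀ := inferInstance
  have hb₀ : IsAffineHom b₀ := inferInstance
  let T := pullback f₀ b₀
  have h1 : CompactSpace T := QuasiCompact.compactSpace_of_compactSpace (pullback.snd f₀ b₀)
  have h2 : QuasiSeparatedSpace T := quasiSeparatedSpace_of_quasiSeparated (pullback.snd f₀ b₀)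
  let g' : U ⟶ T := pullback.lift g p (specULiftZIsTerminal.hom_ext _ _)
  have hg' : IsAffineHom g' := by
    apply MorphismProperty.of_postcomp (W := @IsAffineHom) (W' := @IsSeparated) g' (pullback.fst f₀ b₀)
    · infer_instance
    · rw [pullback.lift_fst]; exact hg
  obtain ⟨I, i1, i2, i3, D, c, hc, t, e, hD, ht, hte⟩ := Groth.Agent.CalgA.RelApprox.relApprox g'
  refine ⟨I, i1, i2, i3, D, c, hc, fun a => t.app a ≫ pullback.snd f₀ b₀, e, fun a b h => hD a b h,
    fun a b h => ?_, fun a => ?_, fun a => ?_⟩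
  · rw [← Category.assoc, t.naturality h]
    exact congrArg (· ≫ pullback.snd f₀ b₀) (Category.comp_id _)
  · have ha : IsAffineHom (Y := T) (t.app a) := (ht a).1
    have hf : LocallyOfFiniteType (Y := T) (t.app a) := (ht a).2
    exact ⟨inferInstanceAs (LocallyOfFiniteType ((show D.obj a ⟶ T from t.app a) ≫ pullback.snd f₀ b₀)),
      inferInstanceAs (QuasiCompact ((show D.obj a ⟶ T from t.app a) ≫ pullback.snd f₀ b₀)),
      inferInstanceAs (QuasiSeparated ((show D.obj a ⟶ T from t.app a) ≫ pullback.snd f₀ b₀))⟩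
  · rw [← Category.assoc, hte a, Category.assoc]
    exact congrArg (e.hom ≫ ·) (pullback.lift_snd _ _ _)

section stage

variable {ι : Type u} [Preorder ι] [IsDirected ι (· ≤ ·)] (T : ιᵒᵖ ⥤ Scheme.{u}) {S X : Scheme.{u}}
  (τ : ∀ a : ιᵒᵖ, T.obj a ⟶ S) (hτ : ∀ ⦃a b : ιᵒᵖ⦄ (h : a ⟶ b), T.map h ≫ τ b = τ a) (f : X ⟶ S)
  [QuasiCompact f] [QuasiSeparated f]
  (haff : ∀ ⦃a b : ιᵒᵖ⦄ (h : a ⟶ b), IsAffineHom (T.map h))
  (hqc : ∀ a, CompactSpace ↥(T.obj a)) (hqs : ∀ a, QuasiSeparatedSpace ↥(T.obj a))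
  (c : Cone T) (t : c.pt ⟶ S) (ht : ∀ a, c.π.app a ≫ τ a = t) (hc : IsLimit c)
  (M : Type) [AddCommGroup M] (p : ℕ)

include haff hqc hqs hτ hc

/-- Classes with constant coefficients on a limit of fibre products come from a finite stage. -/
theorem exists_HC_stage [Nonempty ι] (ξ : HH (pullback f t) (EtCoh.const _ M) p) :
    ∃ (j : ι) (η : HH (pullback f (τ (op j))) (EtCoh.const _ M) p),
      HC M (PullbackLim.proj T τ f c t ht (op j)) p η = ξ := by
  obtain ⟨i₀⟩ := ‹Nonempty ι›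
  obtain ⟨j, hj, η, hη⟩ := Groth.Agent.EtpbcB.HLim.exists_class T τ hτ f haff hqc hqs c t ht hc
    (EtCoh.const X M) p i₀ (HHmap (EtCore.pullConst (pullback.fst f t) M).inv p ξ)
  refine ⟨j, HHmap (EtCore.pullConst (pullback.fst f (τ (op j))) M).hom p η, ?_⟩
  have h1 : HHmap (th (PullbackLim.proj T τ f c t ht (op j)) (pullback.fst f (τ (op j)))
      (pullback.fst f t) (PullbackLim.proj_fst T τ f c t ht (op j)) (EtCoh.const X M)) p
      (hp (PullbackLim.proj T τ f c t ht (op j)) _ p η) =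
        HHmap (EtCore.pullConst (pullback.fst f t) M).inv p ξ :=
    (hpVia_apply_th _ _ _ _ _ p η).symm.trans hη
  rw [HC_apply, hp_map, ← HHmap_comp, pullConst_comp _ _ _
    (PullbackLim.proj_fst T τ f c t ht (op j)), HHmap_comp, h1, ← HHmap_comp, Iso.inv_hom_id,
    HHmap_id]

end stage

section main

variable {k : Type u} [Field k] [IsSepClosed k] {m : ℕ} (hm : (m : k) ≠ 0) (M : Type) [AddCommGroup M]
  [Finite M] (hM : ∀ x : M, m • x = 0)

include hm hM

/-- **Homotopy invariance** over a quasi-compact quasi-separated scheme `U` over `k`: a class on `U ×_k T`, `T` connected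
of finite type, has the same restriction to all slices given by rational points of `T`. -/
theorem HC_section_eq {U P T : Scheme.{u}} (pU : U ⟶ Spec (CommRingCat.of k))
    (pT : T ⟶ Spec (CommRingCat.of k)) [QuasiCompact pU] [QuasiSeparated pU]
    [LocallyOfFiniteType pT] [QuasiCompact pT] [ConnectedSpace T] {a : P ⟶ U} {b : P ⟶ T}
    (hP : IsPullback a b pU pT)
    (t₀ t₁ : Spec (CommRingCat.of k) ⟶ T) (ht₀ : t₀ ≫ pT = 𝟙 _) (ht₁ : t₁ ≫ pT = 𝟙 _)
    (s₀ s₁ : U ⟶ P) (hs₀ : s₀ ≫ a = 𝟙 U) (hs₀' : s₀ ≫ b = pU ≫ t₀)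
    (hs₁ : s₁ ≫ a = 𝟙 U) (hs₁' : s₁ ≫ b = pU ≫ t₁) (n : ℕ) (z : HH P (EtCoh.const P M) n) :
    HC M s₀ n z = HC M s₁ n z := by
  have i1 : CompactSpace U := QuasiCompact.compactSpace_of_compactSpace pU
  have i2 : QuasiSeparatedSpace U := quasiSeparatedSpace_of_quasiSeparated pU
  have i3 : IsLocallyNoetherian T := LocallyOfFiniteType.isLocallyNoetherian pT
  obtain ⟨I, j1, j2, j3, D, c, hc, τ, e, haff, hτ, hft, hcτ⟩ := exists_limit pU
  have hqc : ∀ i, CompactSpace (D.obj i) := fun i => by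
    have := (hft i).2.1
    exact QuasiCompact.compactSpace_of_compactSpace (τ i)
  have hqs : ∀ i, QuasiSeparatedSpace (D.obj i) := fun i => by
    have := (hft i).2.2
    exact quasiSeparatedSpace_of_quasiSeparated (τ i)
  -- the fibre product over `k` of `T` and the limit
  let φ : pullback pT (e.hom ≫ pU) ⟶ P := hP.lift (pullback.snd _ _ ≫ e.hom) (pullback.fst _ _)
    (by rw [Category.assoc]; exact pullback.condition.symm)
  let ψ : P ⟶ pullback pT (e.hom ≫ pU) := pullback.lift b (a ≫ e.inv)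
    (by rw [Category.assoc, Iso.inv_hom_id_assoc]; exact hP.w.symm)
  have hψφ : ψ ≫ φ = 𝟙 P := by
    apply hP.hom_ext
    · rw [Category.assoc, hP.lift_fst, pullback.lift_snd_assoc, Category.assoc, e.inv_hom_id,
        Category.comp_id, Category.id_comp]
    · rw [Category.assoc, hP.lift_snd, pullback.lift_fst, Category.id_comp]
  obtain ⟨j, η, hη⟩ := exists_HC_stage D τ hτ pT haff hqc hqs c (e.hom ≫ pU) hcτ hc M n
    (HC M φ n z)
  have hz : HC M ψ n (HC M φ n z) = z := (HC_HC M ψ φ (𝟙 P) hψφ n z).trans (HC_id M n z)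
  have i4 := (hft (op j)).1
  have i5 := (hft (op j)).2.1
  obtain ⟨x, hx⟩ := K833.Homotopy.exists_HC_eq n hm (τ (op j))
    (IsPullback.of_hasPullback pT (τ (op j))).flip t₀ ht₀ M hM η
  let ρ : U ⟶ D.obj (op j) := e.inv ≫ c.π.app (op j)
  have hρ : ρ ≫ τ (op j) = pU := by
    rw [Category.assoc, hcτ, Iso.inv_hom_id_assoc]
  have key : ∀ (t' : Spec (CommRingCat.of k) ⟶ T) (s : U ⟶ P), t' ≫ pT = 𝟙 _ → s ≫ a = 𝟙 U →
      s ≫ b = pU ≫ t' → HC M s n z = HC M ρ n x := by
    intro t' s ht' hs hs'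
    let s' : D.obj (op j) ⟶ pullback pT (τ (op j)) := pullback.lift (τ (op j) ≫ t') (𝟙 _)
      (by rw [Category.assoc, ht', Category.comp_id, Category.id_comp])
    have h1 : HC M s' n η = x := hx t' s' (pullback.lift_snd _ _ _) (pullback.lift_fst _ _ _)
    have h3 : s ≫ (a ≫ e.inv) ≫ c.π.app (op j) = ρ := by
      rw [Category.assoc, reassoc_of% hs]
    have h2 : s ≫ ψ ≫ PullbackLim.proj D τ pT c (e.hom ≫ pU) hcτ (op j) = ρ ≫ s' := by
      apply pullback.hom_ext
      · rw [Category.assoc, Category.assoc, PullbackLim.proj_fst, pullback.lift_fst, hs',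
          Category.assoc, pullback.lift_fst, ← Category.assoc, hρ]
      · rw [Category.assoc, Category.assoc, PullbackLim.proj_snd, pullback.lift_snd_assoc,
          h3, Category.assoc, pullback.lift_snd, Category.comp_id]
    rw [← hz, ← hη, HC_HC M ψ _ _ rfl, HC_HC M s _ _ h2, HC_comp, h1]
  rw [key t₀ s₀ ht₀ hs₀ hs₀', key t₁ s₁ ht₁ hs₁ hs₁']

end main

end K880.LimU
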